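import Cfsg.Prelude.Def_Blocks
import Cfsg.Agent.Lib.Char.Degree
import Cfsg.Agent.Lib.Char.RealClasses
import Cfsg.Agent.Lib.Solvable.NilpotentFrattini
import Cfsg.Agent.Lib.LocalEven.Frattini
import Cfsg.Agent.Lib.Transfer.PGroup
import Mathlib.GroupTheory.Nilpotent
import Mathlib.GroupTheory.FiniteAbelian.Duality
import Mathlib.RingTheory.RootsOfUnity.Complex

/-!
# Linear characters with values `±1` of a subgroup, up to its normaliser
-/

set_option autoImplicit false
set_option linter.style.haveILetI false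
set_option linter.unusedSectionVars false

namespace Cfsg.Agent.RealOddSolvable

open Cfsg Cfsg.Agent.Char Cfsg.Agent.CharX
open scoped ComplexConjugate commutatorElement

universe u v

variable {G : Type u} [Group G]

/-- The real irreducible characters of odd degree. -/
abbrev OddReal (G : Type u) [Group G] : Type u :=
  {χ : IrrCharacter G // (∀ g : G, ((χ : G → ℂ) g).im = 0) ∧ Odd (charDegree (χ : G → ℂ))}

/-- All irreducible characters of odd degree are real. -/
def AllReal (G : Type u) [Group G] : Prop :=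
  ∀ χ : IrrCharacter G, Odd (charDegree (χ : G → ℂ)) → ∀ g : G, ((χ : G → ℂ) g).im = 0

/-- All linear characters are of order at most two. -/
def Sq (P : Subgroup G) : Prop := ∀ l : P →* ℂˣ, l * l = 1

/-- The linear characters with square one. -/
abbrev Lin2 (P : Subgroup G) : Type u := {l : P →* ℂˣ // l * l = 1}

/-- Being conjugate under the normaliser. -/
def Rel (P : Subgroup G) (l l' : Lin2 P) : Prop :=
  ∃ n ∈ Subgroup.normalizer (P : Set G), ∀ x y : P, (y : G) = n * x * n⁻¹ → l'.1 x = l.1 y

theorem conj_mem {P : Subgroup G} {n x : G} (hn : n ∈ Subgroup.normalizer (P : Set G))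
    (hx : x ∈ P) : n * x * n⁻¹ ∈ P :=
  (Subgroup.mem_normalizer_iff.1 hn x).1 hx

theorem Rel.equivalence (P : Subgroup G) : Equivalence (Rel P) := by
  constructor
  · exact fun l => ⟨1, one_mem _, fun x y h => congrArg l.1 (Subtype.ext (by simpa using h.symm))⟩
  · rintro l l' ⟨n, hn, h⟩
    exact ⟨n⁻¹, inv_mem hn, fun x y hy => (h y x (by rw [hy]; group)).symm⟩
  · rintro l l' l'' ⟨n, hn, h⟩ ⟨m, hm, h'⟩
    refine ⟨n * m, mul_mem hn hm, fun x y hy => ?_⟩
    rw [h' x ⟨m * x * m⁻¹, conj_mem hm x.2⟩ rfl]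
    exact h _ y (by rw [hy]; group)

instance relSetoid (P : Subgroup G) : Setoid (Lin2 P) := ⟨Rel P, Rel.equivalence P⟩

/-- The orbits of the normaliser. -/
abbrev Orb (P : Subgroup G) : Type u := Quotient (relSetoid P)

instance finite_lin2 [Finite G] (P : Subgroup G) : Finite (Lin2 P) := by
  refine Finite.of_injective
    (fun l : Lin2 P => (⟨fun x => (l.1 x : ℂ), isIrrCharacter_linear l.1⟩ : IrrCharacter P)) ?_
  intro a b h
  exact Subtype.ext (MonoidHom.ext fun x => Units.ext (congrFun (congrArg Subtype.val h) x))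

theorem sq_apply {A : Type v} [Group A] {l : A →* ℂˣ} (h : l * l = 1) (x : A) : l x * l x = 1 :=
  DFunLike.congr_fun h x

theorem val_sq {A : Type v} [Group A] {l : A →* ℂˣ} (h : l * l = 1) (x : A) :
    (l x : ℂ) * (l x : ℂ) = 1 := by
  rw [← Units.val_mul, sq_apply h x, Units.val_one]

theorem conj_eq_of_sq {A : Type v} [Group A] {l : A →* ℂˣ} (h : l * l = 1) (x : A) :
    conj (l x : ℂ) = (l x : ℂ) := by
  rcases mul_self_eq_one_iff.1 (val_sq h x) with e | e <;> simp [e]

section Transport

variable {A : Type u} [Group A] {B : Type v} [Group B]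

/-- Restriction of a homomorphism to subgroups. -/
def subMap (f : A →* B) (P : Subgroup A) (Q : Subgroup B) (h : ∀ x ∈ P, f x ∈ Q) : P →* Q :=
  (f.comp P.subtype).codRestrict Q fun x => h x x.2

@[simp] theorem subMap_coe (f : A →* B) (P : Subgroup A) (Q : Subgroup B) (h : ∀ x ∈ P, f x ∈ Q)
    (x : P) : (subMap f P Q h x : B) = f x := rfl

theorem subMap_surjective {f : A →* B} {P : Subgroup A} {Q : Subgroup B} (hPQ : P.map f = Q) :
    Function.Surjective (subMap f P Q fun _ hx => hPQ ▸ Subgroup.mem_map_of_mem f hx) := by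
  subst hPQ
  rintro ⟨_, x, hx, rfl⟩
  exact ⟨⟨x, hx⟩, rfl⟩

theorem sq_map (f : A →* B) (P : Subgroup A) (Q : Subgroup B) (hPQ : P.map f = Q) (h : Sq P) :
    Sq Q := by
  intro l
  refine MonoidHom.ext fun y => ?_
  obtain ⟨x, rfl⟩ := subMap_surjective hPQ y
  exact DFunLike.congr_fun (h (l.comp _)) x

theorem sq_of_map (f : A →* B) (P : Subgroup A) (Q : Subgroup B) (hPQ : P.map f = Q)
    (hinj : Set.InjOn f P) (h : Sq Q) : Sq P := by
  intro l
  let e : P ≃* Q := MulEquiv.ofBijective _
    ⟨fun a b hab => Subtype.ext (hinj a.2 b.2 (congrArg Subtype.val hab)), subMap_surjective hPQ⟩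
  refine MonoidHom.ext fun x => ?_
  have := DFunLike.congr_fun (h (l.comp e.symm.toMonoidHom)) (e x)
  simpa using this

/-- Orbit numbers of corresponding subgroups agree when normalisers correspond. -/
theorem card_orb_eq (f : A →* B) (P : Subgroup A) (Q : Subgroup B) (hPQ : P.map f = Q)
    (hinj : Set.InjOn f P)
    (hlift : ∀ b ∈ Subgroup.normalizer (Q : Set B),
      ∃ a ∈ Subgroup.normalizer (P : Set A), f a = b) :
    Nat.card (Orb P) = Nat.card (Orb Q) := by
  let e : P ≃* Q := MulEquiv.ofBijective _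
    ⟨fun a b hab => Subtype.ext (hinj a.2 b.2 (congrArg Subtype.val hab)), subMap_surjective hPQ⟩
  have he : ∀ x : P, (e x : B) = f x := fun _ => rfl
  let E : Lin2 Q ≃ Lin2 P :=
    { toFun := fun l => ⟨l.1.comp e.toMonoidHom, MonoidHom.ext fun x => sq_apply l.2 (e x)⟩
      invFun := fun l => ⟨l.1.comp e.symm.toMonoidHom, MonoidHom.ext fun x => sq_apply l.2 _⟩
      left_inv := fun l => Subtype.ext (MonoidHom.ext fun x => by simp)
      right_inv := fun l => Subtype.ext (MonoidHom.ext fun x => by simp) }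
  refine (Nat.card_congr (Quotient.congr E fun l l' => ?_)).symm
  show Rel Q l l' ↔ Rel P (E l) (E l')
  constructor
  · rintro ⟨b, hb, h⟩
    obtain ⟨a, ha, rfl⟩ := hlift b hb
    refine ⟨a, ha, fun x y hy => h (e x) (e y) ?_⟩
    simp only [he, hy, map_mul, map_inv]
  · rintro ⟨a, ha, h⟩
    have hfa : f a ∈ Subgroup.normalizer (Q : Set B) := by
      subst hPQ
      exact Subgroup.le_normalizer_map f (Subgroup.mem_map_of_mem f ha)
    refine ⟨f a, hfa, fun x y hy => ?_⟩
    obtain ⟨x, rfl⟩ := e.surjective x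
    obtain ⟨y, rfl⟩ := e.surjective y
    refine h x y (hinj y.2 (conj_mem ha x.2) ?_)
    rw [← he, hy, he, map_mul, map_mul, map_inv]

end Transport

section Degree

variable [Fintype G]

/-- A character of odd degree has a constituent of odd degree. -/
theorem exists_odd_constituent {α : G → ℂ} (hα : IsCharacter G α) {D : ℕ} (hD : α 1 = D)
    (hodd : Odd D) :
    ∃ ψ : IrrCharacter G, classInner α (ψ : G → ℂ) ≠ 0 ∧ Odd (charDegree (ψ : G → ℂ)) := by
  classical
  obtain ⟨m, rfl⟩ := IsCharacter.exists_decomp hα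
  simp only [Finset.sum_apply, Pi.smul_apply, irr_deg, smul_eq_mul] at hD
  have hD' : ∑ ψ : IrrCharacter G, m ψ * charDegree (ψ : G → ℂ) = D := by exact_mod_cast hD
  by_contra hno
  push Not at hno
  refine Nat.not_even_iff_odd.2 hodd (hD' ▸ Finset.even_sum _ fun ψ _ => ?_)
  by_cases hm : m ψ = 0
  · simp [hm]
  · refine (Nat.not_odd_iff_even.1 (hno ψ ?_)).mul_left _
    rw [classInner_combination]
    exact Nat.cast_ne_zero.2 hm

end Degree

/-- In a `2`-group all linear characters have square one exactly when the derived subgroup is the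
Frattini subgroup. -/
theorem sq_iff [Finite G] (P : Subgroup G) (hP : IsPGroup 2 P) :
    Sq P ↔ commutator P = frattini P := by
  haveI : Fact (Nat.Prime 2) := ⟨Nat.prime_two⟩
  constructor
  · intro h
    haveI := hP.isNilpotent
    refine le_antisymm (SolvStruct.commutator_le_frattini P)
      (LEFrattini.frattini_le (p := 2) (fun x y => ?_) fun x => ?_)
    · exact Subgroup.commutator_mem_commutator (Subgroup.mem_top x) (Subgroup.mem_top y)
    · by_contra hx
      have ha : Abelianization.of (x ^ 2) ≠ (1 : Abelianization P) := fun e =>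
        hx ((QuotientGroup.eq_one_iff (x ^ 2)).1 e)
      obtain ⟨φ, hφ⟩ := CommGroup.exists_apply_ne_one_of_hasEnoughRootsOfUnity
        (Abelianization P) ℂ ha
      refine hφ ?_
      rw [map_pow, map_pow, pow_two]
      exact sq_apply (h (φ.comp Abelianization.of)) x
  · intro h l
    refine MonoidHom.ext fun x => ?_
    have hx : x ^ 2 ∈ commutator P := h ▸ PGroupBasics.pow_mem_frattini hP x
    have := Abelianization.commutator_subset_ker l hx
    rw [MonoidHom.mem_ker, map_pow, pow_two] at this
    exact this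

end Cfsg.Agent.RealOddSolvable
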