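import Cfsg.Agent.Lib.Char.RealOddSolvable.TwoKernel
import Cfsg.Agent.Lib.Solvable.Basic
import Mathlib.GroupTheory.Solvable

/-!
# Real odd degree characters of a solvable group and the Sylow `2`-normaliser
-/

set_option autoImplicit false
set_option linter.style.haveILetI false
set_option linter.unusedSectionVars false

namespace Cfsg.Agent.RealOddSolvable

open Cfsg Cfsg.Agent.Char Cfsg.Agent.CharX Cfsg.Agent.Blocks
open scoped ComplexConjugate

universe u

/-- The two statements proved by induction. -/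
def Stmt (G : Type u) [Group G] (P : Subgroup G) : Prop :=
  Nat.card (OddReal G) = Nat.card (Orb P) ∧
    (AllReal G ↔ (Subgroup.normalizer (P : Set G) = P ∧ Sq P))

section Two

variable {G : Type u} [Group G] [Fintype G] (N : Subgroup G) [hN : N.Normal] [Fintype N]
  (P : Sylow 2 G) (hNP : N ≤ P) (he : ∀ n : N, n * n = 1)

theorem odd_index_of_le {T : Subgroup G} (hPT : (P : Subgroup G) ≤ T) : Odd T.index := by
  haveI : Fact (Nat.Prime 2) := ⟨Nat.prime_two⟩
  exact Nat.not_even_iff_odd.1 fun h =>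
    P.not_dvd_index ((even_iff_two_dvd.1 h).trans (Subgroup.index_dvd_of_le hPT))

theorem odd_index_subgroupOf {T : Subgroup G} (hPT : (P : Subgroup G) ≤ T) :
    Odd ((P : Subgroup G).subgroupOf T).index := by
  haveI : Fact (Nat.Prime 2) := ⟨Nat.prime_two⟩
  exact Nat.not_even_iff_odd.1 fun h => (P.subtype hPT).not_dvd_index (even_iff_two_dvd.1 h)

include hNP in
theorem restrict_fixed (l : (P : Subgroup G) →* ℂˣ) :
    (P : Subgroup G) ≤ inertia N (fn N (l.comp (Subgroup.inclusion hNP))) := fun x hx => by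
  rw [mem_inertia_iff]
  intro n
  have e : Subgroup.inclusion hNP (conjHom N x n) =
      ⟨x, hx⟩ * Subgroup.inclusion hNP n * ⟨x, hx⟩⁻¹ := rfl
  show (l (Subgroup.inclusion hNP (conjHom N x n)) : ℂ) = (l (Subgroup.inclusion hNP n) : ℂ)
  rw [e, hom_conj]

include hNP in
theorem conjOrbit_eq_of_rel {l l' : Lin2 (P : Subgroup G)} (h : Rel (P : Subgroup G) l l') :
    conjOrbit N (fn N (l.1.comp (Subgroup.inclusion hNP))) =
      conjOrbit N (fn N (l'.1.comp (Subgroup.inclusion hNP))) := by
  obtain ⟨n, -, h⟩ := h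
  have e : fn N (l'.1.comp (Subgroup.inclusion hNP)) =
      conjChar N n (fn N (l.1.comp (Subgroup.inclusion hNP))) := funext fun m =>
    congrArg Units.val (h (Subgroup.inclusion hNP m) ⟨n * m * n⁻¹, hNP (hN.conj_mem _ m.2 n)⟩ rfl)
  ext φ
  rw [mem_conjOrbit, mem_conjOrbit, e]
  constructor
  · rintro ⟨g, rfl⟩
    exact ⟨n⁻¹ * g, by rw [← conjChar_mul, mul_inv_cancel_left]⟩
  · rintro ⟨g, rfl⟩
    exact ⟨n * g, (conjChar_mul N n g _).symm⟩

/-- The constituent class of a character. -/
noncomputable def classA (χ : OddReal G) : Finset (N → ℂ) :=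
  conjOrbit N (fn N (exists_fixed N (comm_of_exp N he) P χ.1 χ.2.2).choose)

/-- The restriction class of an orbit. -/
noncomputable def classB : Orb (P : Subgroup G) → Finset (N → ℂ) :=
  Quotient.lift (fun l => conjOrbit N (fn N (l.1.comp (Subgroup.inclusion hNP))))
    fun _ _ h => conjOrbit_eq_of_rel N P hNP h

theorem classA_eq_iff (χ : OddReal G) (θ : N →* ℂˣ) :
    classA N P he χ = conjOrbit N (fn N θ) ↔ Over N θ (χ.1 : G → ℂ) := by
  have hspec := (exists_fixed N (comm_of_exp N he) P χ.1 χ.2.2).choose_spec.1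
  constructor
  · intro h
    have : fn N θ ∈ classA N P he χ := h ▸ (mem_conjOrbit N).2 ⟨1, (conjChar_one N _).symm⟩
    obtain ⟨g, hg⟩ := (mem_conjOrbit N).1 this
    rw [Over, hg, classInner_restrict_conjChar N
      (IsCharacter.isClassFunction (IsIrrCharacter.isCharacter χ.1.2))]
    exact hspec
  · intro h
    obtain ⟨g, hg⟩ := (mem_conjOrbit N).1 (restrict_constituent_conj N χ.1.2
      (isIrrCharacter_linear _) (isIrrCharacter_linear θ) hspec h)
    rw [classA, show fn N θ = conjChar N g _ from hg]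
    ext φ
    rw [mem_conjOrbit, mem_conjOrbit]
    constructor
    · rintro ⟨k, rfl⟩
      exact ⟨g⁻¹ * k, by rw [← conjChar_mul, mul_inv_cancel_left]⟩
    · rintro ⟨k, rfl⟩
      exact ⟨g * k, (conjChar_mul N g k _).symm⟩

theorem classB_eq_iff (θ : N →* ℂˣ) (hfix : (P : Subgroup G) ≤ inertia N (fn N θ))
    (o : Orb (P : Subgroup G)) :
    classB N P hNP o = conjOrbit N (fn N θ) ↔ OrbOver N (P : Subgroup G) hNP θ o := by
  haveI : Fact (Nat.Prime 2) := ⟨Nat.prime_two⟩
  constructor
  · intro h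
    induction o using Quotient.ind with
    | _ l =>
    have hm : fn N θ ∈ classB N P hNP ⟦l⟧ := h ▸ (mem_conjOrbit N).2 ⟨1, (conjChar_one N _).symm⟩
    obtain ⟨g, hg⟩ := (mem_conjOrbit N).1 hm
    let θ' : IrrCharacter N := ⟨_, isIrrCharacter_linear (l.1.comp (Subgroup.inclusion hNP))⟩
    have hg' : cjIrr N g θ' = ⟨fn N θ, isIrrCharacter_linear θ⟩ := Subtype.ext hg.symm
    obtain ⟨n, hn, hn'⟩ := RealOrbit.exists_normalizer_conj N P θ' g
      (fun x hx => (RealOrbit.mem_inertia_cjIrr N).1 (restrict_fixed N P hNP l.1 hx))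
      (fun x hx => by
        rw [hg']
        exact (RealOrbit.mem_inertia_cjIrr N).1 (hfix hx))
    let c : (P : Subgroup G) →* (P : Subgroup G) :=
      subMap (MulAut.conj n).toMonoidHom _ _ fun _ hx => conj_mem hn hx
    refine ⟨⟨l.1.comp c, MonoidHom.ext fun x => sq_apply l.2 (c x)⟩, Quotient.sound ?_, fun m => ?_⟩
    · exact (Rel.equivalence _).symm ⟨n, hn, fun x y hy => congrArg l.1 (Subtype.ext hy.symm)⟩
    · refine Units.ext ?_
      have := congrFun (congrArg Subtype.val (hn'.trans hg')) m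
      exact this
  · rintro ⟨l, rfl, hl⟩
    show conjOrbit N (fn N (l.1.comp (Subgroup.inclusion hNP))) = _
    rw [show l.1.comp (Subgroup.inclusion hNP) = θ from MonoidHom.ext hl]

include hNP he in
theorem card_two
    (ih : ∀ T : Subgroup G, N ≤ T → (P : Subgroup G) ≤ T →
      Nat.card (OddReal (T ⧸ N.subgroupOf T)) =
        Nat.card (Orb (((P : Subgroup G).subgroupOf T).map (QuotientGroup.mk' (N.subgroupOf T))))) :
    Nat.card (OddReal G) = Nat.card (Orb (P : Subgroup G)) := by
  classical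
  haveI : Fact (Nat.Prime 2) := ⟨Nat.prime_two⟩
  refine Nat.card_congr (Equiv.ofFiberEquiv (f := classA N P he) (g := classB N P hNP) fun c =>
    Classical.choice (Finite.card_eq.1 ?_))
  by_cases hc : ∃ θ : N →* ℂˣ, (P : Subgroup G) ≤ inertia N (fn N θ) ∧ c = conjOrbit N (fn N θ)
  · obtain ⟨θ, hfix, rfl⟩ := hc
    rw [Nat.card_congr (Equiv.subtypeEquivRight fun χ => classA_eq_iff N P he χ θ),
      Nat.card_congr (Equiv.subtypeEquivRight fun o => classB_eq_iff N P hNP θ hfix o)]
    set T := inertia N (fn N θ) with hT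
    haveI : Fintype T := Fintype.ofFinite _
    have hNT : N ≤ T := hNP.trans hfix
    have hsq := sq_of_exp N he θ
    by_cases hμ : ∃ μ : T →* ℂˣ, μ * μ = 1 ∧ ∀ n : N, μ ⟨(n : G), hNT n.2⟩ = θ n
    · obtain ⟨μ, hμ, hμN⟩ := hμ
      rw [← card_fibre_char N hNT θ μ hT hsq (odd_index_of_le P hfix) hμ hμN,
        ← card_fibre_orb N (P : Subgroup G) hNP hNT hfix θ hT μ hμ hμN]
      exact ih T hNT hfix
    · haveI : IsEmpty {χ : OddReal G // Over N θ (χ.1 : G → ℂ)} := ⟨fun ⟨χ, hχ⟩ => hμ (by
        obtain ⟨ψ, hψ, hind, hc⟩ :=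
          clifford_correspondence_surjective N (isIrrCharacter_linear θ) hT hNT χ.1.2 hχ
        have hon := onT_of_over N hNT θ hT hψ (hc ▸ hχ)
        have hd := χ.2.2
        rw [← hind, deg_indFun hψ] at hd
        obtain ⟨δ, hδN, hδ⟩ := exists_det N hNT θ hsq hψ hon (Nat.odd_mul.1 hd).2
        exact ⟨δ, hδ (real_of_indFun N hNT θ hT hsq hψ hon (hind ▸ χ.2.1)), hδN⟩)⟩
      haveI : IsEmpty {o : Orb (P : Subgroup G) // OrbOver N (P : Subgroup G) hNP θ o} :=
        ⟨fun ⟨o, l, _, hl⟩ => hμ (by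
          let e := Subgroup.subgroupOfEquivOfLe hfix
          refine exists_mu N hNT θ hT hsq _ (odd_index_subgroupOf P hfix)
            (fun x hx => hNP hx) (l.1.comp e.toMonoidHom)
            (MonoidHom.ext fun x => sq_apply l.2 (e x)) fun x n hx => ?_
          rw [MonoidHom.comp_apply, MulEquiv.coe_toMonoidHom, ← hl n]
          exact congrArg l.1 (Subtype.ext hx))⟩
      exact Nat.card_congr (Equiv.equivOfIsEmpty _ _)
  · haveI : IsEmpty {χ : OddReal G // classA N P he χ = c} := ⟨fun ⟨χ, hχ⟩ => hc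
      ⟨_, (exists_fixed N (comm_of_exp N he) P χ.1 χ.2.2).choose_spec.2, hχ.symm⟩⟩
    haveI : IsEmpty {o : Orb (P : Subgroup G) // classB N P hNP o = c} := ⟨fun ⟨o, ho⟩ => hc (by
      induction o using Quotient.ind with
      | _ l => exact ⟨_, restrict_fixed N P hNP l.1, ho.symm⟩)⟩
    exact Nat.card_congr (Equiv.equivOfIsEmpty _ _)

include hNP he in
theorem allReal_two
    (hn : Subgroup.normalizer ((P : Subgroup G) : Set G) = (P : Subgroup G))
    (hs : Sq (P : Subgroup G))
    (ih : ∀ T : Subgroup G, N ≤ T → (P : Subgroup G) ≤ T →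
      Subgroup.normalizer ((((P : Subgroup G).subgroupOf T).map
        (QuotientGroup.mk' (N.subgroupOf T)) : Subgroup _) : Set (T ⧸ N.subgroupOf T)) =
          ((P : Subgroup G).subgroupOf T).map (QuotientGroup.mk' (N.subgroupOf T)) →
      Sq (((P : Subgroup G).subgroupOf T).map (QuotientGroup.mk' (N.subgroupOf T))) →
      AllReal (T ⧸ N.subgroupOf T)) : AllReal G := by
  classical
  haveI : Fact (Nat.Prime 2) := ⟨Nat.prime_two⟩
  intro χ hd g
  obtain ⟨θ, hθ, hfix⟩ := exists_fixed N (comm_of_exp N he) P χ hd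
  set T := inertia N (fn N θ) with hT
  haveI : Fintype T := Fintype.ofFinite _
  have hNT : N ≤ T := hNP.trans hfix
  have hsq := sq_of_exp N he θ
  obtain ⟨ψ, hψ, hind, hc⟩ :=
    clifford_correspondence_surjective N (isIrrCharacter_linear θ) hT hNT χ.2 hθ
  have hon := onT_of_over N hNT θ hT hψ (hc ▸ hθ)
  have hd' := hd
  rw [← hind, deg_indFun hψ] at hd'
  have hψd := (Nat.odd_mul.1 hd').2
  obtain ⟨δ, hδN, -⟩ := exists_det N hNT θ hsq hψ hon hψd
  let e := Subgroup.subgroupOfEquivOfLe hfix
  obtain ⟨μ, hμ, hμN⟩ := exists_mu N hNT θ hT hsq _ (odd_index_subgroupOf P hfix)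
    (fun x hx => hNP hx) (δ.comp ((P : Subgroup G).subgroupOf T).subtype)
    (MonoidHom.ext fun x => by
      have := sq_apply (hs (δ.comp (Subgroup.inclusion hfix))) (e x)
      exact this)
    fun x n hx => (congrArg δ (Subtype.ext hx : (x : T) = ⟨(n : G), hNT n.2⟩)).trans (hδN n)
  obtain ⟨w, hw⟩ := exists_lift N hNT θ μ hμ hμN hψ hon
  have hw' : Odd (charDegree (w : T ⧸ N.subgroupOf T → ℂ)) := by
    rw [← charDegree_lift N μ w, hw]
    exact hψd
  have hn' : Subgroup.normalizer ((((P : Subgroup G).subgroupOf T).map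
        (QuotientGroup.mk' (N.subgroupOf T)) : Subgroup _) : Set (T ⧸ N.subgroupOf T)) =
      ((P : Subgroup G).subgroupOf T).map (QuotientGroup.mk' (N.subgroupOf T)) := by
    refine le_antisymm (fun b hb => ?_) Subgroup.le_normalizer
    obtain ⟨t, ht, rfl⟩ := lift_normalizer_of_ker_le _ (QuotientGroup.mk'_surjective _)
      (by rw [QuotientGroup.ker_mk']; exact fun x hx => hNP hx) b hb
    refine Subgroup.mem_map_of_mem _ ?_
    rw [← Subgroup.subgroupOf_normalizer_eq hfix, Subgroup.mem_subgroupOf, hn] at ht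
    exact ht
  have hs' : Sq (((P : Subgroup G).subgroupOf T).map (QuotientGroup.mk' (N.subgroupOf T))) := by
    refine sq_map _ _ _ rfl ?_
    intro l
    refine MonoidHom.ext fun x => ?_
    have := sq_apply (hs (l.comp e.symm.toMonoidHom)) (e x)
    simpa using this
  have hwr := ih T hNT hfix hn' hs' w hw'
  refine Complex.conj_eq_iff_im.1 ?_
  rw [← hind, conj_indFun]
  refine congrFun (congrArg (indFun T) (funext fun t => ?_)) g
  rw [← hw, lift, map_mul, conj_eq_of_sq hμ, Complex.conj_eq_iff_im.2 (hwr _)]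

include hNP he in
theorem sq_two (hall : AllReal G)
    (hq : Sq ((P : Subgroup G).map (QuotientGroup.mk' N))) : Sq (P : Subgroup G) := by
  classical
  haveI : Fact (Nat.Prime 2) := ⟨Nat.prime_two⟩
  haveI : Fintype (P : Subgroup G) := Fintype.ofFinite _
  intro l
  set θ := l.comp (Subgroup.inclusion hNP) with hθdef
  have hfix := restrict_fixed N P hNP l
  rw [← hθdef] at hfix
  set T := inertia N (fn N θ) with hT
  haveI : Fintype T := Fintype.ofFinite _
  have hNT : N ≤ T := hNP.trans hfix
  have hsq := sq_of_exp N he θ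
  obtain ⟨χ, hχ, hχd⟩ := exists_odd_constituent
    (isCharacter_indFun (P : Subgroup G) (IsIrrCharacter.isCharacter (isIrrCharacter_linear l)))
    (D := (P : Subgroup G).index) (by rw [indFun_one_apply]; simp) (odd_index_of_le P le_rfl)
  have hres : classInner (fun t : (P : Subgroup G) => (χ : G → ℂ) t) (fun t => (l t : ℂ)) ≠ 0 := by
    rw [← classInner_conj_symm, ← classInner_indFun_left _ _
      (IsCharacter.isClassFunction (IsIrrCharacter.isCharacter χ.2))]
    simpa using hχ
  have hover : Over N θ (χ : G → ℂ) :=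
    RelGlauberman.mult_trans (Subgroup.inclusion hNP)
      (IsCharacter.restrict (IsIrrCharacter.isCharacter χ.2) _) (isIrrCharacter_linear l)
      (IsIrrCharacter.isCharacter (isIrrCharacter_linear θ)) hres (by
        show classInner (fn N θ) (fn N θ) ≠ 0
        rw [classInner_self_irr (isIrrCharacter_linear θ)]
        exact one_ne_zero)
  obtain ⟨ψ, hψ, hind, hc⟩ :=
    clifford_correspondence_surjective N (isIrrCharacter_linear θ) hT hNT χ.2 hover
  have hon := onT_of_over N hNT θ hT hψ (hc ▸ hover)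
  have hd := hχd
  rw [← hind, deg_indFun hψ] at hd
  obtain ⟨δ, hδN, hδ⟩ := exists_det N hNT θ hsq hψ hon (Nat.odd_mul.1 hd).2
  have hδ2 := hδ (real_of_indFun N hNT θ hT hsq hψ hon (hind ▸ hall χ hχd))
  let f := subMap (QuotientGroup.mk' N) (P : Subgroup G) ((P : Subgroup G).map (QuotientGroup.mk' N))
    fun _ hx => Subgroup.mem_map_of_mem _ hx
  obtain ⟨k, hk⟩ := exists_factor_hom f (subMap_surjective rfl)
    (l * δ.comp (Subgroup.inclusion hfix)) fun x hx => by
      have hxN : (x : G) ∈ N := by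
        have := congrArg Subtype.val (MonoidHom.mem_ker.1 hx)
        exact (QuotientGroup.eq_one_iff _).1 this
      rw [MonoidHom.mem_ker, MonoidHom.mul_apply, MonoidHom.comp_apply]
      have e1 : δ (Subgroup.inclusion hfix x) = θ ⟨(x : G), hxN⟩ := hδN ⟨(x : G), hxN⟩
      have e2 : θ ⟨(x : G), hxN⟩ = l x := rfl
      rw [← e2, e1, sq_apply hsq]
  refine MonoidHom.ext fun x => ?_
  have h1 := sq_apply (hq k) (f x)
  rw [hk, MonoidHom.mul_apply, mul_mul_mul_comm, MonoidHom.comp_apply, sq_apply hδ2, mul_one] at h1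
  exact h1

end Two

theorem stmt_trivial {G : Type u} [Group G] [Fintype G] [Subsingleton G] (P : Subgroup G) :
    Stmt G P := by
  have hχ : ∀ χ : IrrCharacter G, (χ : G → ℂ) = fun _ => 1 := fun χ => funext fun g => by
    rw [Subsingleton.elim g 1]
    exact degree_one_of_comm (fun a b => Subsingleton.elim _ _) χ.2
  have hl : ∀ l : P →* ℂˣ, l = 1 := fun l => MonoidHom.ext fun x => by
    rw [Subsingleton.elim x 1, map_one, map_one]
  have hall : AllReal G := fun χ _ g => by rw [hχ χ]; rfl
  refine ⟨?_, fun _ => ⟨Subgroup.ext fun x => ?_, fun l => by rw [hl l]; exact MonoidHom.ext fun x => one_mul _⟩, fun _ => hall⟩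
  · haveI : Subsingleton (OddReal G) :=
      ⟨fun a b => Subtype.ext (Subtype.ext ((hχ a.1).trans (hχ b.1).symm))⟩
    haveI : Nonempty (OddReal G) := ⟨⟨⟨_, isIrrCharacter_one⟩, fun _ => rfl, by
      rw [charDegree_one]; exact odd_one⟩⟩
    haveI : Subsingleton (Orb P) := ⟨fun a b => by
      induction a using Quotient.ind with
      | _ a =>
      induction b using Quotient.ind with
      | _ b => exact congrArg _ (Subtype.ext ((hl a.1).trans (hl b.1).symm))⟩
    haveI : Nonempty (Orb P) := ⟨⟦⟨1, MonoidHom.ext fun x => one_mul _⟩⟧⟩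
    rw [Nat.card_unique, Nat.card_unique]
  · rw [Subsingleton.elim x 1]
    simp [one_mem]

theorem main_aux : ∀ (n : ℕ) (G : Type u) [Group G] [Finite G] [Group.IsSolvable G],
    Nat.card G ≤ n → ∀ P : Sylow 2 G, Stmt G (P : Subgroup G) := by
  haveI : Fact (Nat.Prime 2) := ⟨Nat.prime_two⟩
  intro n
  induction n with
  | zero =>
    intro G _ _ _ hn
    exact absurd hn (not_le.2 Nat.card_pos)
  | succ n IH =>
    intro G _ _ _ hn P
    haveI := Fintype.ofFinite G
    rcases subsingleton_or_nontrivial G with hG | hG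
    · exact stmt_trivial _
    obtain ⟨N, p, hp, hNn, hN, -, hNc, hexp, hNp, -⟩ :=
      SolvBasic.exists_minimal_normal_abelian (N := (⊤ : Subgroup G)) inferInstance top_ne_bot
    haveI := hNn
    haveI : Fintype N := Fintype.ofFinite _
    have hlt : ∀ T : Subgroup G, N ≤ T → Nat.card (T ⧸ N.subgroupOf T) ≤ n := by
      intro T hT
      have h1 : Nat.card (T ⧸ N.subgroupOf T) * Nat.card N ≤ n + 1 := by
        rw [← Nat.card_congr (Subgroup.subgroupOfEquivOfLe hT).toEquiv,
          ← Subgroup.card_eq_card_quotient_mul_card_subgroup]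
        exact (Nat.le_of_dvd Nat.card_pos T.card_subgroup_dvd_card).trans hn
      have h2 : 2 ≤ Nat.card N := (Subgroup.one_lt_card_iff_ne_bot N).2 hN
      have h3 : 0 < Nat.card (T ⧸ N.subgroupOf T) := Nat.card_pos
      nlinarith
    have hltG : Nat.card (G ⧸ N) ≤ n := by
      have h1 : Nat.card (G ⧸ N) * Nat.card N ≤ n + 1 := by
        rw [← Subgroup.card_eq_card_quotient_mul_card_subgroup]
        exact hn
      have h2 : 2 ≤ Nat.card N := (Subgroup.one_lt_card_iff_ne_bot N).2 hN
      have h3 : 0 < Nat.card (G ⧸ N) := Nat.card_pos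
      nlinarith
    have hGq := IH (G ⧸ N) hltG (P.mapSurjective (QuotientGroup.mk'_surjective N))
    rw [Sylow.coe_mapSurjective] at hGq
    by_cases hp2 : p = 2
    · subst hp2
      have hNP : N ≤ (P : Subgroup G) := by
        obtain ⟨Q, hQ⟩ := hNp.exists_le_sylow
        obtain ⟨g, hg⟩ := MulAction.exists_smul_eq G Q P
        intro x hx
        rw [← hg, Sylow.coe_subgroup_smul, Subgroup.mem_pointwise_smul_iff_inv_smul_mem]
        refine hQ ?_
        rw [MulAut.smul_def, ← map_inv, MulAut.conj_apply, inv_inv]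
        simpa using hNn.conj_mem x hx g⁻¹
      have he : ∀ m : N, m * m = 1 := fun m => Subtype.ext (by
        rw [Subgroup.coe_mul, OneMemClass.coe_one, ← pow_two, hexp _ m.2])
      have ih : ∀ T : Subgroup G, N ≤ T → (P : Subgroup G) ≤ T →
          Stmt (T ⧸ N.subgroupOf T)
            (((P : Subgroup G).subgroupOf T).map (QuotientGroup.mk' (N.subgroupOf T))) :=
        fun T hT hPT => by
          have := IH (T ⧸ N.subgroupOf T) (hlt T hT)
            ((P.subtype hPT).mapSurjective (QuotientGroup.mk'_surjective _))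
          exact this
      refine ⟨card_two N P hNP he fun T hT hPT => (ih T hT hPT).1, fun hall => ?_, fun h => ?_⟩
      · obtain ⟨hn', hs'⟩ := hGq.2.1 (allReal_quot N hall)
        refine ⟨le_antisymm (fun x hx => ?_) Subgroup.le_normalizer, sq_two N P hNP he hall hs'⟩
        have h1 : QuotientGroup.mk' N x ∈ (P : Subgroup G).map (QuotientGroup.mk' N) := by
          rw [← hn']
          exact Subgroup.le_normalizer_map _ (Subgroup.mem_map_of_mem _ hx)
        rwa [← Subgroup.mem_comap, Subgroup.comap_map_eq, QuotientGroup.ker_mk',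
          sup_eq_left.2 hNP] at h1
      · exact allReal_two N P hNP he h.1 h.2 fun T hT hPT a b => (ih T hT hPT).2.2 ⟨a, b⟩
    · have hodd : Odd (Nat.card N) := by
        haveI : Fact p.Prime := ⟨hp⟩
        obtain ⟨k, hk⟩ := IsPGroup.iff_card.1 hNp
        rw [hk]
        exact (hp.odd_of_ne_two hp2).pow
      have hcomm : ∀ a b : N, a * b = b * a := fun a b => hNc.is_comm.comm a b
      have hinj := injOn_mk N P hodd
      refine ⟨?_, fun hall => ?_, fun h => ?_⟩
      · rw [← card_oddReal_quot N (fun χ => trivial_of_real N hcomm hodd χ.1 χ.2.1 χ.2.2), hGq.1]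
        exact (card_orb_eq _ _ _ rfl hinj (lift_normalizer N P hodd)).symm
      · obtain ⟨hn', hs'⟩ := hGq.2.1 (allReal_quot N hall)
        refine ⟨le_antisymm (fun x hx => ?_) Subgroup.le_normalizer, sq_of_map _ _ _ rfl hinj hs'⟩
        have h1 : QuotientGroup.mk' N x ∈ (P : Subgroup G).map (QuotientGroup.mk' N) := by
          rw [← hn']
          exact Subgroup.le_normalizer_map _ (Subgroup.mem_map_of_mem _ hx)
        obtain ⟨y, hy, hyx⟩ := h1
        have hc : y⁻¹ * x ∈ N := (QuotientGroup.eq (s := N)).1 hyx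
        have hcn : y⁻¹ * x ∈ Subgroup.normalizer ((P : Subgroup G) : Set G) :=
          mul_mem (inv_mem (Subgroup.le_normalizer hy)) hx
        have h2 := eq_one_of_allReal N P hcomm hodd hall ⟨_, hc⟩ fun z hz => by
          have hzc : z * (y⁻¹ * x) * z⁻¹ * (y⁻¹ * x)⁻¹ ∈ (P : Subgroup G) := by
            rw [mul_assoc, mul_assoc z]
            refine (P : Subgroup G).mul_mem hz ?_
            have := conj_mem hcn ((P : Subgroup G).inv_mem hz)
            simpa [mul_assoc] using this
          have h3 : z * (y⁻¹ * x) * z⁻¹ * (y⁻¹ * x)⁻¹ = 1 := by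
            refine hinj hzc (P : Subgroup G).one_mem ?_
            rw [map_one, QuotientGroup.mk'_apply, QuotientGroup.eq_one_iff]
            exact N.mul_mem (hNn.conj_mem _ hc z) (N.inv_mem hc)
          exact mul_inv_eq_one.1 h3
        have h3 : y⁻¹ * x = 1 := congrArg Subtype.val h2
        rwa [← inv_mul_eq_one.1 h3]
      · refine allReal_of_quot N (hGq.2.2 ⟨le_antisymm (fun b hb => ?_) Subgroup.le_normalizer,
          sq_map _ _ _ rfl h.2⟩) fun χ hχ => trivial_of_self_norm N P hcomm hodd h.1 χ hχ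
        obtain ⟨a, ha, rfl⟩ := lift_normalizer N P hodd b hb
        exact Subgroup.mem_map_of_mem _ (h.1 ▸ ha)

theorem main {G : Type u} [Group G] [Finite G] [Group.IsSolvable G] (P : Sylow 2 G) :
    Stmt G (P : Subgroup G) :=
  main_aux (Nat.card G) G le_rfl P

/-- The count in the form of the normaliser. -/
theorem card_eq_normalizer {G : Type u} [Group G] [Finite G] [Group.IsSolvable G] (P : Sylow 2 G) :
    Nat.card (OddReal G) =
      Nat.card (OddReal (Subgroup.normalizer ((P : Subgroup G) : Set G))) := by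
  haveI : Fact (Nat.Prime 2) := ⟨Nat.prime_two⟩
  set H := Subgroup.normalizer ((P : Subgroup G) : Set G) with hH
  have hle : (P : Subgroup G) ≤ H := Subgroup.le_normalizer
  rw [(main P).1, (main (P.subtype hle)).1]
  have hmap : ((P.subtype hle : Sylow 2 H) : Subgroup H).map H.subtype = (P : Subgroup G) := by
    rw [Sylow.coe_subtype, Subgroup.map_subgroupOf_eq_of_le hle]
  refine (card_orb_eq H.subtype _ _ hmap H.subtype_injective.injOn fun b hb => ?_).symm
  refine ⟨⟨b, hb⟩, ?_, rfl⟩
  rw [Sylow.coe_subtype, ← Subgroup.subgroupOf_normalizer_eq hle]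
  exact hb

end Cfsg.Agent.RealOddSolvable
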