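import Cfsg.Agent.Lib.Char.RealOddSolvable.Basic
import Cfsg.Agent.Lib.Char.RealOrbit
import Cfsg.Agent.Lib.Char.ExtensionChar
import Cfsg.Agent.Lib.Char.Orbit
import Cfsg.Agent.Lib.Transfer.CoprimeQuotient
import Mathlib.GroupTheory.Perm.Cycle.Type

/-!
# A normal abelian subgroup of odd order, against a Sylow `2`-subgroup
-/

set_option autoImplicit false
set_option linter.style.haveILetI false
set_option linter.unusedSectionVars false

namespace Cfsg.Agent.RealOddSolvable

open Cfsg Cfsg.Agent.Char Cfsg.Agent.CharX Cfsg.Agent.Blocks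
open scoped ComplexConjugate

universe u

variable {G : Type u} [Group G] [Fintype G] (N : Subgroup G) [hN : N.Normal] [Fintype N]

/-- Every irreducible character of an abelian subgroup is linear. -/
theorem exists_linear (hcomm : ∀ a b : N, a * b = b * a) (θ : IrrCharacter N) :
    ∃ l : N →* ℂˣ, (θ : N → ℂ) = fun n => (l n : ℂ) :=
  exists_hom_of_degree_one (IsIrrCharacter.isCharacter θ.2) (degree_one_of_comm hcomm θ.2)

/-- The inertia index of a constituent divides the degree. -/
theorem index_dvd_deg (χ : IrrCharacter G) (θ : IrrCharacter N)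
    (h : classInner (fun n : N => (χ : G → ℂ) n) (θ : N → ℂ) ≠ 0) :
    (inertia N (θ : N → ℂ)).index ∣ charDegree (χ : G → ℂ) := by
  obtain ⟨e, he⟩ := IsCharacter.exists_classInner_nat
    (IsCharacter.restrict (IsIrrCharacter.isCharacter χ.2) N) (IsIrrCharacter.isCharacter θ.2)
  have h1 := clifford_degree N χ.2 θ.2 h
  rw [he, irr_deg, irr_deg] at h1
  have h2 : charDegree (χ : G → ℂ) =
      e * (inertia N (θ : N → ℂ)).index * charDegree (θ : N → ℂ) := by exact_mod_cast h1
  exact ⟨e * charDegree (θ : N → ℂ), by rw [h2]; ring⟩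

/-- A character of odd degree has a linear constituent on `N` fixed by a Sylow `2`-subgroup. -/
theorem exists_fixed (hcomm : ∀ a b : N, a * b = b * a) (P : Sylow 2 G) (χ : IrrCharacter G)
    (hodd : Odd (charDegree (χ : G → ℂ))) :
    ∃ l : N →* ℂˣ, classInner (fun n : N => (χ : G → ℂ) n) (fun n => (l n : ℂ)) ≠ 0 ∧
      (P : Subgroup G) ≤ inertia N (fun n => (l n : ℂ)) := by
  haveI : Fact (Nat.Prime 2) := ⟨Nat.prime_two⟩
  obtain ⟨θ, hθ⟩ := exists_restrict_constituent χ.2 N
  have ht : ¬ 2 ∣ (inertia N (θ : N → ℂ)).index := fun h =>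
    Nat.not_even_iff_odd.2 hodd (even_iff_two_dvd.2 (h.trans (index_dvd_deg N χ θ hθ)))
  obtain ⟨g, hg⟩ := RealOrbit.exists_conj_inv N P θ ht
  obtain ⟨l, hl⟩ := exists_linear N hcomm (cjIrr N g θ)
  refine ⟨l, ?_, fun x hx => ?_⟩
  · rw [← hl]
    exact RealOrbit.over_cjIrr N χ θ g hθ
  · rw [← hl]
    exact (RealOrbit.mem_inertia_cjIrr N).2 (hg x hx)

/-- A real character of odd degree is trivial on an abelian normal subgroup of odd order. -/
theorem trivial_of_real (hcomm : ∀ a b : N, a * b = b * a) (hodd : Odd (Nat.card N))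
    (χ : IrrCharacter G) (hr : ∀ g, ((χ : G → ℂ) g).im = 0)
    (hd : Odd (charDegree (χ : G → ℂ))) : ∀ x ∈ N, (χ : G → ℂ) x = (χ : G → ℂ) 1 := by
  classical
  haveI : Fact (Nat.Prime 2) := ⟨Nat.prime_two⟩
  obtain ⟨θ, hθ⟩ := exists_restrict_constituent χ.2 N
  set O := conjOrbit N (θ : N → ℂ) with hO
  have hirr : ∀ φ ∈ O, IsIrrCharacter N φ := fun φ hφ => by
    obtain ⟨g, rfl⟩ := (mem_conjOrbit N).1 hφ
    exact isIrrCharacter_conjChar N θ.2 g
  have hconj : ∀ φ ∈ O, (fun n => conj (φ n)) ∈ O := by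
    intro φ hφ
    obtain ⟨g, rfl⟩ := (mem_conjOrbit N).1 hφ
    refine restrict_constituent_conj N χ.2 θ.2
      (RealChar.bar ⟨_, isIrrCharacter_conjChar N θ.2 g⟩).2 hθ ?_
    show classInner (fun n : N => (χ : G → ℂ) n) (fun n => conj (conjChar N g (θ : N → ℂ) n)) ≠ 0
    have e : classInner (fun n : N => (χ : G → ℂ) n) (fun n => conj (conjChar N g (θ : N → ℂ) n)) =
        conj (classInner (fun n : N => (χ : G → ℂ) n) (conjChar N g (θ : N → ℂ))) := by
      simp only [classInner, map_mul, map_inv₀, map_natCast, map_sum]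
      exact congrArg _ (Finset.sum_congr rfl fun n _ => by rw [Complex.conj_eq_iff_im.2 (hr _)])
    rw [e, map_ne_zero, classInner_restrict_conjChar N
      (IsCharacter.isClassFunction (IsIrrCharacter.isCharacter χ.2))]
    exact hθ
  let σ : Equiv.Perm O :=
    Function.Involutive.toPerm (fun φ => ⟨fun n => conj (φ.1 n), hconj φ.1 φ.2⟩)
      (fun φ => Subtype.ext (funext fun n => Complex.conj_conj _))
  have hcard : ¬ 2 ∣ Fintype.card O := by
    rw [Fintype.card_coe, hO, card_conjOrbit]
    exact fun h => Nat.not_even_iff_odd.2 hd (even_iff_two_dvd.2 (h.trans (index_dvd_deg N χ θ hθ)))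
  obtain ⟨φ, hφ⟩ := Equiv.Perm.exists_fixed_point_of_prime (n := 1) hcard
    (show σ ^ 2 ^ 1 = 1 from Equiv.ext fun φ => by
      simp [σ, pow_two, Subtype.ext_iff, Function.Involutive.toPerm])
  have hreal : ∀ n, conj (φ.1 n) = φ.1 n := fun n => congrFun (congrArg Subtype.val hφ) n
  obtain ⟨l, hl⟩ := exists_linear N hcomm ⟨φ.1, hirr _ φ.2⟩
  change φ.1 = fun n => (l n : ℂ) at hl
  have hl1 : φ.1 = fun _ => 1 := by
    rw [hl]
    funext n
    have hp : l n ^ Nat.card N = 1 := by rw [← map_pow, pow_card_eq_one', map_one]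
    have hre : conj (l n : ℂ) = (l n : ℂ) := by have := hreal n; rwa [hl] at this
    have hn : ‖(l n : ℂ)‖ = 1 := by
      refine norm_eq_one_of_pow (Nat.card_pos (α := N)).ne' ?_
      rw [← Units.val_pow_eq_pow_val, hp, Units.val_one]
    have h2 : l n ^ 2 = 1 := Units.ext (by
      rw [Units.val_pow_eq_pow_val, pow_two, Units.val_one]
      nth_rewrite 2 [← hre]
      rw [Complex.mul_conj', hn]
      norm_num)
    rw [CharExtend.eq_one_of_pow_coprime h2 hp (Nat.coprime_two_left.2 hodd), Units.val_one]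
  have hover : classInner (fun n : N => (χ : G → ℂ) n) φ.1 ≠ 0 := by
    obtain ⟨g, hg⟩ := (mem_conjOrbit N).1 φ.2
    rw [hg, classInner_restrict_conjChar N
      (IsCharacter.isClassFunction (IsIrrCharacter.isCharacter χ.2))]
    exact hθ
  rw [hl1] at hover
  exact fun x hx => restrict_over_one N χ.2 hover ⟨x, hx⟩

/-- Characters trivial on `N` are those of the quotient. -/
theorem card_oddReal_quot (h : ∀ χ : OddReal G, ∀ x ∈ N, (χ.1 : G → ℂ) x = (χ.1 : G → ℂ) 1) :
    Nat.card (OddReal (G ⧸ N)) = Nat.card (OddReal G) := by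
  refine Nat.card_eq_of_bijective
    (fun w => ⟨infl N w.1, fun g => w.2.1 _, w.2.2⟩) ⟨?_, ?_⟩
  · intro a b hab
    refine Subtype.ext (Subtype.ext (funext fun q => ?_))
    obtain ⟨g, rfl⟩ := QuotientGroup.mk_surjective q
    exact congrFun (congrArg Subtype.val (congrArg Subtype.val hab)) g
  · intro χ
    obtain ⟨w, hw⟩ := (quotEquiv N).surjective ⟨χ.1, h χ⟩
    have hw' : infl N w = χ.1 := congrArg Subtype.val hw
    refine ⟨⟨w, fun q => ?_, ?_⟩, Subtype.ext hw'⟩
    · obtain ⟨g, rfl⟩ := QuotientGroup.mk_surjective q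
      rw [← infl_apply, hw']
      exact χ.2.1 g
    · have : Odd (charDegree (infl N w : G → ℂ)) := hw' ▸ χ.2.2
      exact this

theorem allReal_quot (h : AllReal G) : AllReal (G ⧸ N) := fun w hw q => by
  obtain ⟨g, rfl⟩ := QuotientGroup.mk_surjective q
  exact h (infl N w) hw g

theorem allReal_of_quot (h : AllReal (G ⧸ N))
    (htriv : ∀ χ : IrrCharacter G, Odd (charDegree (χ : G → ℂ)) →
      ∀ x ∈ N, (χ : G → ℂ) x = (χ : G → ℂ) 1) : AllReal G := fun χ hχ g => by
  obtain ⟨w, hw⟩ := (quotEquiv N).surjective ⟨χ, htriv χ hχ⟩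
  have hw' : infl N w = χ := congrArg Subtype.val hw
  rw [← hw'] at hχ ⊢
  exact h w hχ _

section Sylow

variable (P : Sylow 2 G)

theorem injOn_mk (hodd : Odd (Nat.card N)) :
    Set.InjOn (QuotientGroup.mk' N) (P : Subgroup G) := by
  haveI : Fact (Nat.Prime 2) := ⟨Nat.prime_two⟩
  refine CoprimeQuotient.injOn_of_coprime_ker _ ?_ P.isPGroup'
  rw [QuotientGroup.ker_mk']
  exact Nat.coprime_two_right.2 hodd

theorem lift_normalizer (hodd : Odd (Nat.card N)) (b : G ⧸ N)
    (hb : b ∈ Subgroup.normalizer (((P : Subgroup G).map (QuotientGroup.mk' N) : Subgroup (G ⧸ N)) : Set (G ⧸ N))) :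
    ∃ a ∈ Subgroup.normalizer ((P : Subgroup G) : Set G), QuotientGroup.mk' N a = b := by
  haveI : Fact (Nat.Prime 2) := ⟨Nat.prime_two⟩
  rw [CoprimeQuotient.normalizer_map _ (QuotientGroup.mk'_surjective N) ?_ P.isPGroup'] at hb
  · exact hb
  · rw [QuotientGroup.ker_mk']
    exact Nat.coprime_two_right.2 hodd

/-- A central element for `P` in `N` yields a fixed linear character detecting it. -/
theorem exists_fixed_detecting (hcomm : ∀ a b : N, a * b = b * a) (hodd : Odd (Nat.card N))
    (c : N) (hc : ∀ x ∈ (P : Subgroup G), x * c * x⁻¹ = c) (hc1 : c ≠ 1) :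
    ∃ l : N →* ℂˣ, l c ≠ 1 ∧ (P : Subgroup G) ≤ inertia N (fun n => (l n : ℂ)) := by
  classical
  haveI : Fact (Nat.Prime 2) := ⟨Nat.prime_two⟩
  letI : CommGroup N := { (inferInstance : Group N) with mul_comm := hcomm }
  haveI : Fintype (P : Subgroup G) := Fintype.ofFinite _
  obtain ⟨μ, hμ⟩ := CommGroup.exists_apply_ne_one_of_hasEnoughRootsOfUnity N ℂ hc1
  let s : N →* N :=
    { toFun := fun n => ∏ x : (P : Subgroup G), conjHom N (x : G) n
      map_one' := by simp
      map_mul' := fun a b => by simp only [map_mul, Finset.prod_mul_distrib] }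
  refine ⟨μ.comp s, ?_, fun y hy => ?_⟩
  · have hs : s c = c ^ Nat.card (P : Subgroup G) := by
      show ∏ x : (P : Subgroup G), conjHom N (x : G) c = _
      rw [Finset.prod_congr rfl fun (x : (P : Subgroup G)) _ => show conjHom N (x : G) c = c from
        Subtype.ext (hc x x.2), Finset.prod_const, Finset.card_univ, Nat.card_eq_fintype_card]
    rw [MonoidHom.comp_apply, hs, map_pow]
    obtain ⟨k, hk⟩ := IsPGroup.iff_card.1 P.isPGroup'
    refine fun h => hμ (CharExtend.eq_one_of_pow_coprime h (b := Nat.card N) ?_ ?_)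
    · rw [← map_pow, pow_card_eq_one', map_one]
    · rw [hk]
      exact Nat.Coprime.pow_left _ (Nat.coprime_two_left.2 hodd)
  · rw [mem_inertia_iff]
    intro n
    show (μ (s (conjHom N y n)) : ℂ) = (μ (s n) : ℂ)
    refine congrArg (fun z => (μ z : ℂ)) ?_
    show ∏ x : (P : Subgroup G), conjHom N (x : G) (conjHom N y n) = _
    simp only [← conjHom_mul]
    exact Fintype.prod_equiv (Equiv.mulRight ⟨y, hy⟩) _ _ fun x => rfl

/-- If the normaliser of `P` is `P` then odd degree characters are trivial on `N`. -/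
theorem trivial_of_self_norm (hcomm : ∀ a b : N, a * b = b * a) (hodd : Odd (Nat.card N))
    (hNP : Subgroup.normalizer ((P : Subgroup G) : Set G) = (P : Subgroup G)) (χ : IrrCharacter G)
    (hd : Odd (charDegree (χ : G → ℂ))) : ∀ x ∈ N, (χ : G → ℂ) x = (χ : G → ℂ) 1 := by
  classical
  haveI : Fact (Nat.Prime 2) := ⟨Nat.prime_two⟩
  letI : CommGroup N := { (inferInstance : Group N) with mul_comm := hcomm }
  haveI : Fintype (P : Subgroup G) := Fintype.ofFinite _
  obtain ⟨l, hl, hfix⟩ := exists_fixed N hcomm P χ hd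
  obtain ⟨k, hk⟩ := IsPGroup.iff_card.1 P.isPGroup'
  have hl1 : ∀ n, l n = 1 := by
    intro n
    set f := ∏ x : (P : Subgroup G), conjHom N (x : G) n with hf
    have hfy : ∀ y : (P : Subgroup G), conjHom N (y : G) f = f := fun y => by
      rw [hf, map_prod]
      simp only [← conjHom_mul]
      exact Fintype.prod_equiv (Equiv.mulLeft y) _ _ fun x => rfl
    have hcomm' : ∀ x ∈ (P : Subgroup G), x * (f : G) = f * x := fun x hx => by
      have := congrArg Subtype.val (hfy ⟨x, hx⟩)
      rw [conjHom_coe] at this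
      exact mul_inv_eq_iff_eq_mul.1 this
    have hfP : (f : G) ∈ (P : Subgroup G) := by
      rw [← hNP]
      exact Subgroup.centralizer_le_normalizer _ (Subgroup.mem_centralizer_iff.2 hcomm')
    have hf1 : f = 1 := by
      refine Subtype.ext (injOn_mk N P hodd hfP (one_mem (P : Subgroup G)) ?_)
      rw [OneMemClass.coe_one, map_one, QuotientGroup.mk'_apply, QuotientGroup.eq_one_iff]
      exact f.2
    have hpow : l n ^ Nat.card (P : Subgroup G) = 1 := by
      have h := congrArg l hf1
      rw [hf, map_prod, map_one, Finset.prod_congr rfl fun (x : (P : Subgroup G)) _ =>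
        show l (conjHom N (x : G) n) = l n from Units.ext ((mem_inertia_iff N).1 (hfix x.2) n),
        Finset.prod_const, Finset.card_univ, ← Nat.card_eq_fintype_card] at h
      exact h
    refine CharExtend.eq_one_of_pow_coprime hpow (b := Nat.card N) ?_ ?_
    · rw [← map_pow, pow_card_eq_one', map_one]
    · rw [hk]
      exact Nat.Coprime.pow_left _ (Nat.coprime_two_left.2 hodd)
  rw [show (fun n => (l n : ℂ)) = fun _ => (1 : ℂ) from funext fun n => by simp [hl1]] at hl
  exact fun x hx => restrict_over_one N χ.2 hl ⟨x, hx⟩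

/-- If all odd degree characters are real, then `P` centralizes no non-trivial element of `N`. -/
theorem eq_one_of_allReal (hcomm : ∀ a b : N, a * b = b * a) (hodd : Odd (Nat.card N))
    (hall : AllReal G) (c : N) (hc : ∀ x ∈ (P : Subgroup G), x * c * x⁻¹ = c) : c = 1 := by
  classical
  haveI : Fact (Nat.Prime 2) := ⟨Nat.prime_two⟩
  by_contra hc1
  obtain ⟨l, hlc, hfix⟩ := exists_fixed_detecting N P hcomm hodd c hc hc1
  set fn : N → ℂ := fun n => (l n : ℂ) with hfn
  have hNI : N ≤ inertia N fn :=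
    le_inertia N (IsCharacter.isClassFunction (IsIrrCharacter.isCharacter (isIrrCharacter_linear l)))
  have hMI : (P : Subgroup G) ⊔ N ≤ inertia N fn := sup_le hfix hNI
  set M := (P : Subgroup G) ⊔ N with hM
  haveI : Fintype M := Fintype.ofFinite _
  let e := Subgroup.subgroupOfEquivOfLe (show N ≤ M from le_sup_right)
  have hcop : Nat.Coprime (N.subgroupOf M).index (orderOf (l.comp e.toMonoidHom)) := by
    have h1 : (N.subgroupOf M).index ∣ Nat.card (P : Subgroup G) := by
      show N.relIndex M ∣ _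
      rw [hM, Subgroup.relIndex_sup_right]
      exact Subgroup.relIndex_dvd_card _ _
    have h2 : orderOf (l.comp e.toMonoidHom) ∣ Nat.card N := by
      refine orderOf_dvd_of_pow_eq_one (MonoidHom.ext fun x => ?_)
      rw [MonoidHom.pow_apply, MonoidHom.comp_apply, ← map_pow, pow_card_eq_one', map_one,
        MonoidHom.one_apply]
    obtain ⟨k, hk⟩ := IsPGroup.iff_card.1 P.isPGroup'
    rw [hk] at h1
    exact ((Nat.Coprime.pow_left _ (Nat.coprime_two_left.2 hodd)).coprime_dvd_left h1).coprime_dvd_right h2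
  obtain ⟨ν, hν, -⟩ := CharExtend.exists_linear_extension (l.comp e.toMonoidHom)
    (fun g n => Units.ext ((mem_inertia_iff N).1 (hMI g.2) (e n))) hcop
  have hidx : Odd M.index := by
    refine Nat.not_even_iff_odd.1 fun h => P.not_dvd_index ?_
    exact (even_iff_two_dvd.1 h).trans (Subgroup.index_dvd_of_le le_sup_left)
  obtain ⟨χ, hχ, hχd⟩ := exists_odd_constituent
    (isCharacter_indFun M (IsIrrCharacter.isCharacter (isIrrCharacter_linear ν)))
    (D := M.index) (by rw [indFun_one_apply]; simp) hidx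
  have hres : classInner (fun t : M => (χ : G → ℂ) t) (fun t => (ν t : ℂ)) ≠ 0 := by
    rw [← classInner_conj_symm, ← classInner_indFun_left M _
      (IsCharacter.isClassFunction (IsIrrCharacter.isCharacter χ.2))]
    simpa using hχ
  have hover : classInner (fun n : N => (χ : G → ℂ) n) fn ≠ 0 := by
    refine RelGlauberman.mult_trans (Subgroup.inclusion (show N ≤ M from le_sup_right))
      (IsCharacter.restrict (IsIrrCharacter.isCharacter χ.2) M) (isIrrCharacter_linear ν)
      (IsIrrCharacter.isCharacter (isIrrCharacter_linear l)) hres ?_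
    rw [show (fun z : N => (ν (Subgroup.inclusion (show N ≤ M from le_sup_right) z) : ℂ)) = fn from
      funext fun z => congrArg Units.val (hν (e.symm z)), classInner_self_irr (isIrrCharacter_linear l)]
    exact one_ne_zero
  have htriv := trivial_of_real N hcomm hodd χ (hall χ hχd) hχd
  rw [show (fun n : N => (χ : G → ℂ) n) = (χ : G → ℂ) 1 • (fun _ => (1 : ℂ)) from
    funext fun n => by simp [htriv n n.2], classInner_smul_left] at hover
  refine hlc (Units.ext ?_)
  have he : (fun _ : N => (1 : ℂ)) = fn := by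
    by_contra hne
    exact hover (by rw [classInner_irr_of_ne isIrrCharacter_one (isIrrCharacter_linear l) hne,
      mul_zero])
  rw [Units.val_one]
  exact (congrFun he c).symm

end Sylow

end Cfsg.Agent.RealOddSolvable
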