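import Cfsg.Agent.Lib.Char.RealOddSolvable.OddKernel
import Cfsg.Agent.Lib.Char.DetComp
import Cfsg.Agent.Lib.Char.ChiefRestrict

/-!
# A normal elementary abelian `2`-subgroup inside the Sylow `2`-subgroup
-/

set_option autoImplicit false
set_option linter.style.haveILetI false
set_option linter.unusedSectionVars false

namespace Cfsg.Agent.RealOddSolvable

open Cfsg Cfsg.Agent.Char Cfsg.Agent.CharX Cfsg.Agent.Blocks
open scoped ComplexConjugate

universe u v w

/-- Factor a homomorphism through a surjection. -/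
theorem exists_factor_hom {A : Type u} [Group A] {B : Type v} [Group B] {C : Type w} [Group C]
    (f : A →* B) (hf : Function.Surjective f) (g : A →* C) (h : f.ker ≤ g.ker) :
    ∃ k : B →* C, ∀ a, k (f a) = g a := by
  refine ⟨MonoidHom.liftOfSurjective f hf ⟨g, h⟩, fun a => ?_⟩
  exact MonoidHom.liftOfRightInverse_comp_apply f (Function.surjInv hf)
    (Function.rightInverse_surjInv hf) ⟨g, h⟩ a

theorem lift_normalizer_of_ker_le {A : Type u} [Group A] {B : Type v} [Group B] (f : A →* B)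
    (hf : Function.Surjective f) {P : Subgroup A} (hk : f.ker ≤ P) (b : B)
    (hb : b ∈ Subgroup.normalizer ((P.map f : Subgroup B) : Set B)) :
    ∃ a ∈ Subgroup.normalizer (P : Set A), f a = b := by
  obtain ⟨a, rfl⟩ := hf b
  refine ⟨a, Subgroup.mem_normalizer_iff.2 fun x => ?_, rfl⟩
  have hP : ∀ y, y ∈ P ↔ f y ∈ P.map f := fun y => by
    rw [← Subgroup.mem_comap, Subgroup.comap_map_eq, sup_eq_left.2 hk]
  rw [hP x, hP (a * x * a⁻¹), map_mul, map_mul, map_inv]
  exact Subgroup.mem_normalizer_iff.1 hb (f x)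

theorem conj_indFun {G : Type u} [Group G] [Fintype G] (T : Subgroup G) (ψ : T → ℂ) (g : G) :
    conj (indFun T ψ g) = indFun T (fun t => conj (ψ t)) g := by
  simp only [indFun, map_mul, map_inv₀, map_natCast, map_sum]
  congr 1
  refine Finset.sum_congr rfl fun x _ => ?_
  by_cases h : x⁻¹ * g * x ∈ T
  · rw [extendByZero_mem T _ h, extendByZero_mem T _ h]
  · rw [extendByZero_not_mem T _ h, extendByZero_not_mem T _ h, map_zero]

theorem hom_conj {A : Type u} [Group A] (f : A →* ℂˣ) (a x : A) : f (a * x * a⁻¹) = f x := by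
  rw [map_mul, map_mul, map_inv, mul_inv_cancel_comm]

variable {G : Type u} [Group G] [Fintype G] (N : Subgroup G) [hN : N.Normal] [Fintype N]

/-- A linear character as a function. -/
abbrev fn (θ : N →* ℂˣ) : N → ℂ := fun n => (θ n : ℂ)

/-- Lying over a linear character of `N`. -/
abbrev Over (θ : N →* ℂˣ) (χ : G → ℂ) : Prop := classInner (fun n : N => χ n) (fn N θ) ≠ 0

theorem sq_of_exp (he : ∀ n : N, n * n = 1) (θ : N →* ℂˣ) : θ * θ = 1 :=
  MonoidHom.ext fun n => by rw [MonoidHom.mul_apply, ← map_mul, he, map_one, MonoidHom.one_apply]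

theorem comm_of_exp (he : ∀ n : N, n * n = 1) (a b : N) : a * b = b * a := by
  have h : ∀ n : N, n⁻¹ = n := fun n => inv_eq_of_mul_eq_one_right (he n)
  rw [← h (a * b), mul_inv_rev, h, h]

section Inertia

variable {T : Subgroup G} [Fintype T] (hNT : N ≤ T) (θ : N →* ℂˣ)

/-- Characters of the inertia group over `θ` are multiples of `θ` on `N`. -/
theorem onT_of_over (hT : T = inertia N (fn N θ)) {ψ : T → ℂ} (hψ : IsIrrCharacter T ψ)
    (h : classInner (fun n : N => ψ ⟨(n : G), hNT n.2⟩) (fn N θ) ≠ 0) (n : N) :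
    ψ ⟨(n : G), hNT n.2⟩ = ψ 1 * (θ n : ℂ) := by
  classical
  haveI : Fintype (N.subgroupOf T) := Fintype.ofFinite _
  let e := Subgroup.subgroupOfEquivOfLe hNT
  let θT : N.subgroupOf T → ℂ := fun x => fn N θ (e x)
  have hθT : IsIrrCharacter (N.subgroupOf T) θT :=
    IsIrrCharacter.comp (isIrrCharacter_linear θ) e.toMonoidHom e.surjective
  have hne : classInner (fun x : N.subgroupOf T => ψ x) θT ≠ 0 := by
    rw [show classInner (fun x : N.subgroupOf T => ψ x) θT =
      classInner (fun n : N => ψ ⟨(n : G), hNT n.2⟩) (fn N θ) from by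
        simp only [classInner]
        rw [Nat.card_congr e.toEquiv]
        congr 1
        exact Fintype.sum_equiv e.toEquiv _ _ fun x => rfl]
    exact h
  have horb : conjOrbit (N.subgroupOf T) θT = {θT} := by
    ext φ
    rw [mem_conjOrbit, Finset.mem_singleton]
    have hinv : ∀ t : T, conjChar (N.subgroupOf T) t θT = θT := fun t => funext fun x =>
      (mem_inertia_iff N).1 (show (t : G) ∈ inertia N (fn N θ) from hT ▸ t.2) (e x)
    exact ⟨fun ⟨t, ht⟩ => ht.trans (hinv t), fun h => ⟨1, h.trans (hinv 1).symm⟩⟩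
  have hc := clifford (N.subgroupOf T) hψ hθT hne
  rw [horb, Finset.sum_singleton] at hc
  have h1 := congrFun hc 1
  simp only [Pi.smul_apply, smul_eq_mul, OneMemClass.coe_one, θT, map_one, fn, Units.val_one,
    mul_one] at h1
  have hn := congrFun hc (e.symm n)
  simp only [Pi.smul_apply, smul_eq_mul, θT, MulEquiv.apply_symm_apply, ← h1] at hn
  exact hn

theorem over_of_onT {ψ : T → ℂ} (h1 : ψ 1 ≠ 0)
    (h : ∀ n : N, ψ ⟨(n : G), hNT n.2⟩ = ψ 1 * (θ n : ℂ)) :
    classInner (fun n : N => ψ ⟨(n : G), hNT n.2⟩) (fn N θ) ≠ 0 := by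
  rw [show (fun n : N => ψ ⟨(n : G), hNT n.2⟩) = ψ 1 • fn N θ from funext fun n => h n,
    classInner_smul_left, classInner_self_irr (isIrrCharacter_linear θ), mul_one]
  exact h1

/-- The determinant of an odd degree character over `θ` extends `θ`. -/
theorem exists_det (hsq : θ * θ = 1) {ψ : T → ℂ} (hψ : IsIrrCharacter T ψ)
    (h : ∀ n : N, ψ ⟨(n : G), hNT n.2⟩ = ψ 1 * (θ n : ℂ)) (hodd : Odd (charDegree ψ)) :
    ∃ δ : T →* ℂˣ, (∀ n : N, δ ⟨(n : G), hNT n.2⟩ = θ n) ∧
      ((∀ t, (ψ t).im = 0) → δ * δ = 1) := by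
  obtain ⟨d, ρ, -, rfl⟩ := hψ
  have hd : (ρ.character 1 : ℂ) = (d : ℂ) := by
    rw [Representation.char_one]; simp
  have hd' : charDegree ρ.character = d := by simp [charDegree, hd]
  rw [hd'] at hodd
  refine ⟨CharExtend.detHom ρ, fun n => ?_, fun hreal => ?_⟩
  · let σ : Representation ℂ N (Fin d → ℂ) :=
      ((algebraMap ℂ (Module.End ℂ (Fin d → ℂ))).toMonoidHom.comp (Units.coeHom ℂ)).comp θ
    have hσ : ∀ m, σ m = (θ m : ℂ) • LinearMap.id := fun m => by
      ext v
      simp [σ]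
    have hchar : Representation.character (V := Fin d → ℂ) (ρ.comp (Subgroup.inclusion hNT)) = σ.character := by
      funext m
      show ρ.character (Subgroup.inclusion hNT m) = _
      rw [show Subgroup.inclusion hNT m = (⟨(m : G), hNT m.2⟩ : T) from rfl, h, hd,
        Representation.character, hσ, map_smul, LinearMap.trace_id]
      simp [mul_comm]
    have hdet := DFunLike.congr_fun (DetComp.detHom_eq_of_char _ _ hchar) n
    refine Units.ext ?_
    calc (CharExtend.detHom ρ ⟨(n : G), hNT n.2⟩ : ℂ)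
        = (CharExtend.detHom σ n : ℂ) := congrArg Units.val hdet
      _ = (θ n : ℂ) := by
        rw [CharExtend.detHom_apply, hσ, LinearMap.det_smul, LinearMap.det_id, mul_one,
          Module.finrank_fin_fun]
        obtain ⟨j, rfl⟩ := hodd
        rw [pow_succ, pow_mul, pow_two, val_sq hsq, one_pow, one_mul]
  · have hchar : (CharGalois.twistRep (starRingAut : ℂ ≃+* ℂ) ρ).character = ρ.character :=
      funext fun t => (CharGalois.character_twistRep _ ρ t).trans (Complex.conj_eq_iff_im.2 (hreal t))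
    refine MonoidHom.ext fun t => Units.ext ?_
    have hconj : conj (CharExtend.detHom ρ t : ℂ) = (CharExtend.detHom ρ t : ℂ) := by
      have := congrArg Units.val (DFunLike.congr_fun (DetComp.detHom_eq_of_char _ _ hchar) t)
      rw [CharExtend.detHom_apply, DetComp.det_twistRep] at this
      exact this
    have hn : ‖(CharExtend.detHom ρ t : ℂ)‖ = 1 := by
      refine norm_eq_one_of_pow (Nat.card_pos (α := T)).ne' ?_
      rw [← Units.val_pow_eq_pow_val, ← map_pow, pow_card_eq_one', map_one, Units.val_one]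
    rw [MonoidHom.mul_apply, MonoidHom.one_apply, Units.val_mul, Units.val_one]
    nth_rewrite 2 [← hconj]
    rw [Complex.mul_conj', hn]
    norm_num

/-- A square-one linear character of an odd index subgroup transfers. -/
theorem exists_mu (hT : T = inertia N (fn N θ)) (hsq : θ * θ = 1) (Q : Subgroup T)
    (hQ : Odd Q.index) (hNQ : N.subgroupOf T ≤ Q) (l : Q →* ℂˣ) (hl : l * l = 1)
    (hlN : ∀ (x : Q) (n : N), ((x : T) : G) = n → l x = θ n) :
    ∃ μ : T →* ℂˣ, μ * μ = 1 ∧ ∀ n : N, μ ⟨(n : G), hNT n.2⟩ = θ n := by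
  let e := Subgroup.subgroupOfEquivOfLe hNT
  obtain ⟨μ, hμ, hμo⟩ := CharExtend.exists_transfer_linear (θ.comp e.toMonoidHom)
    (fun g m => Units.ext ((mem_inertia_iff N).1 (show (g : G) ∈ inertia N (fn N θ) from hT ▸ g.2) (e m)))
    Q hNQ l (fun m => hlN _ (e m) rfl)
  refine ⟨μ, ?_, fun n => ?_⟩
  · exact (pow_two μ).symm.trans (hμo 2 ((pow_two l).trans hl))
  · refine (hμ (e.symm n)).trans ?_
    obtain ⟨j, hj⟩ := hQ
    rw [hj, MonoidHom.comp_apply, MulEquiv.coe_toMonoidHom, MulEquiv.apply_symm_apply, pow_succ,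
      pow_mul, pow_two, sq_apply hsq, one_pow, one_mul]

theorem real_of_indFun (hT : T = inertia N (fn N θ)) (hsq : θ * θ = 1) {ψ : T → ℂ}
    (hψ : IsIrrCharacter T ψ) (hon : ∀ n : N, ψ ⟨(n : G), hNT n.2⟩ = ψ 1 * (θ n : ℂ))
    (hr : ∀ g, (indFun T ψ g).im = 0) (t : T) : (ψ t).im = 0 := by
  have h1 := IsIrrCharacter.one_ne_zero hψ
  have hbar := (RealChar.bar ⟨ψ, hψ⟩).2
  have heq : ψ = fun t => conj (ψ t) := by
    refine clifford_correspondence_injective N (isIrrCharacter_linear θ) hT hNT hψ hbar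
      (over_of_onT N hNT θ h1 hon) (over_of_onT N hNT θ (ψ := fun t => conj (ψ t)) (by simpa using h1)
        fun n => ?_) (funext fun g => ?_)
    · show conj (ψ ⟨(n : G), hNT n.2⟩) = conj (ψ 1) * (θ n : ℂ)
      rw [hon, map_mul, conj_eq_of_sq hsq]
    · rw [← conj_indFun, Complex.conj_eq_iff_im.2 (hr g)]
  exact Complex.conj_eq_iff_im.1 (congrFun heq t).symm

theorem deg_indFun {ψ : T → ℂ} (hψ : IsIrrCharacter T ψ) :
    charDegree (indFun T ψ) = T.index * charDegree ψ := by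
  have h := deg_spec (isCharacter_indFun T (IsIrrCharacter.isCharacter hψ))
  rw [indFun_one_apply, deg_spec (IsIrrCharacter.isCharacter hψ)] at h
  exact_mod_cast h.symm

variable (μ : T →* ℂˣ)

/-- Inflation to the inertia group, twisted by the extension of `θ`. -/
def lift (w : IrrCharacter (T ⧸ N.subgroupOf T)) : T → ℂ :=
  fun t => (μ t : ℂ) * (w : T ⧸ N.subgroupOf T → ℂ) (t : T ⧸ N.subgroupOf T)

theorem lift_irr (w : IrrCharacter (T ⧸ N.subgroupOf T)) : IsIrrCharacter T (lift N μ w) :=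
  ChiefRestrict.isIrr_mul_linear (infl (N.subgroupOf T) w).2 μ

theorem lift_one (w : IrrCharacter (T ⧸ N.subgroupOf T)) :
    lift N μ w 1 = (w : T ⧸ N.subgroupOf T → ℂ) 1 := by
  simp [lift]

theorem charDegree_lift (w : IrrCharacter (T ⧸ N.subgroupOf T)) :
    charDegree (lift N μ w) = charDegree (w : T ⧸ N.subgroupOf T → ℂ) := by
  simp only [charDegree, lift_one]

theorem lift_onT (hμN : ∀ n : N, μ ⟨(n : G), hNT n.2⟩ = θ n) (w : IrrCharacter (T ⧸ N.subgroupOf T))
    (n : N) : lift N μ w ⟨(n : G), hNT n.2⟩ = lift N μ w 1 * (θ n : ℂ) := by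
  rw [lift_one, lift, hμN, mul_comm,
    (QuotientGroup.eq_one_iff (⟨(n : G), hNT n.2⟩ : T)).2 n.2]

theorem exists_lift (hμ : μ * μ = 1) (hμN : ∀ n : N, μ ⟨(n : G), hNT n.2⟩ = θ n) {ψ : T → ℂ}
    (hψ : IsIrrCharacter T ψ) (hon : ∀ n : N, ψ ⟨(n : G), hNT n.2⟩ = ψ 1 * (θ n : ℂ)) :
    ∃ w, lift N μ w = ψ := by
  have hker : ∀ t : T, QuotientGroup.mk' (N.subgroupOf T) t = 1 →
      (μ t : ℂ) * ψ t = (μ 1 : ℂ) * ψ 1 := fun t ht => by
    rw [QuotientGroup.mk'_apply, QuotientGroup.eq_one_iff] at ht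
    have hn : t = ⟨((⟨(t : G), ht⟩ : N) : G), hNT (show (t : G) ∈ N from ht)⟩ := rfl
    rw [hn, hμN, hon, map_one, Units.val_one, one_mul, mul_left_comm,
      ← hμN, val_sq hμ, mul_one]
  obtain ⟨w, hw⟩ := RelGlauberman.exists_factor (QuotientGroup.mk' (N.subgroupOf T))
    (QuotientGroup.mk'_surjective _) ⟨_, ChiefRestrict.isIrr_mul_linear hψ μ⟩ hker
  refine ⟨w, funext fun t => ?_⟩
  have := hw t
  rw [QuotientGroup.mk'_apply] at this
  rw [lift, this, ← mul_assoc, val_sq hμ, one_mul]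

/-- The fibre of real odd degree characters over `θ`. -/
theorem card_fibre_char (hT : T = inertia N (fn N θ)) (hsq : θ * θ = 1) (hidx : Odd T.index)
    (hμ : μ * μ = 1) (hμN : ∀ n : N, μ ⟨(n : G), hNT n.2⟩ = θ n) :
    Nat.card (OddReal (T ⧸ N.subgroupOf T)) =
      Nat.card {χ : OddReal G // Over N θ (χ.1 : G → ℂ)} := by
  have hcc : ∀ w : IrrCharacter (T ⧸ N.subgroupOf T), IsIrrCharacter G (indFun T (lift N μ w)) ∧
      classInner (fun h : N => indFun T (lift N μ w) h) (fn N θ) ≠ 0 := fun w => by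
    have ho := over_of_onT N hNT θ (IsIrrCharacter.one_ne_zero (lift_irr N μ w))
      (lift_onT N hNT θ μ hμN w)
    obtain ⟨h1, h2⟩ := clifford_correspondence N (isIrrCharacter_linear θ) hT hNT (lift_irr N μ w) ho
    exact ⟨h1, h2 ▸ ho⟩
  refine Nat.card_eq_of_bijective
    (fun w => ⟨⟨⟨indFun T (lift N μ w.1), (hcc w.1).1⟩, fun g => ?_, ?_⟩, (hcc w.1).2⟩) ⟨?_, ?_⟩
  · refine Complex.conj_eq_iff_im.1 ?_
    show conj (indFun T (lift N μ w.1) g) = indFun T (lift N μ w.1) g
    rw [conj_indFun]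
    refine congrFun (congrArg (indFun T) (funext fun t => ?_)) g
    rw [lift, map_mul, conj_eq_of_sq hμ, Complex.conj_eq_iff_im.2 (w.2.1 _)]
  · show Odd (charDegree (indFun T (lift N μ w.1)))
    rw [deg_indFun (lift_irr N μ w.1), charDegree_lift]
    exact hidx.mul w.2.2
  · intro a b hab
    have hab' : indFun T (lift N μ a.1) = indFun T (lift N μ b.1) :=
      congrArg Subtype.val (congrArg Subtype.val (congrArg Subtype.val hab))
    have h := clifford_correspondence_injective N (isIrrCharacter_linear θ) hT hNT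
      (lift_irr N μ a.1) (lift_irr N μ b.1)
      (over_of_onT N hNT θ (IsIrrCharacter.one_ne_zero (lift_irr N μ a.1)) (lift_onT N hNT θ μ hμN a.1))
      (over_of_onT N hNT θ (IsIrrCharacter.one_ne_zero (lift_irr N μ b.1)) (lift_onT N hNT θ μ hμN b.1))
      hab'
    refine Subtype.ext (Subtype.ext (funext fun q => ?_))
    obtain ⟨t, rfl⟩ := QuotientGroup.mk_surjective q
    exact mul_left_cancel₀ (Units.ne_zero (μ t)) (congrFun h t)
  · rintro ⟨χ, hχ⟩
    obtain ⟨ψ, hψ, hind, hc⟩ :=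
      clifford_correspondence_surjective N (isIrrCharacter_linear θ) hT hNT χ.1.2 hχ
    have hon := onT_of_over N hNT θ hT hψ (hc ▸ hχ)
    have hr := real_of_indFun N hNT θ hT hsq hψ hon (hind ▸ χ.2.1)
    obtain ⟨w, hw⟩ := exists_lift N hNT θ μ hμ hμN hψ hon
    refine ⟨⟨w, fun q => ?_, ?_⟩, Subtype.ext (Subtype.ext (Subtype.ext ?_))⟩
    · obtain ⟨t, rfl⟩ := QuotientGroup.mk_surjective q
      have h1 : (w : T ⧸ N.subgroupOf T → ℂ) t = (μ t : ℂ) * ψ t := by
        rw [← hw, lift, ← mul_assoc, val_sq hμ, one_mul]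
      rw [h1, ← Complex.conj_eq_iff_im, map_mul, conj_eq_of_sq hμ, Complex.conj_eq_iff_im.2 (hr t)]
    · have hd := χ.2.2
      rw [← hind, deg_indFun hψ, ← hw, charDegree_lift] at hd
      exact (Nat.odd_mul.1 hd).2
    · show indFun T (lift N μ w) = (χ.1 : G → ℂ)
      rw [hw, hind]

end Inertia

section Sylow

variable (P : Subgroup G) (hNP : N ≤ P)

/-- An orbit lying over `θ`. -/
def OrbOver (θ : N →* ℂˣ) (o : Orb P) : Prop :=
  ∃ l : Lin2 P, (⟦l⟧ : Orb P) = o ∧ ∀ n : N, l.1 ⟨(n : G), hNP n.2⟩ = θ n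

variable {T : Subgroup G} (hNT : N ≤ T) (hPT : P ≤ T) (θ : N →* ℂˣ)

/-- The map onto the image of `P` in the quotient of the inertia group. -/
def pm : P →* (P.subgroupOf T).map (QuotientGroup.mk' (N.subgroupOf T)) :=
  (subMap (QuotientGroup.mk' (N.subgroupOf T)) (P.subgroupOf T) _
    fun _ hx => Subgroup.mem_map_of_mem _ hx).comp (Subgroup.subgroupOfEquivOfLe hPT).symm.toMonoidHom

theorem pm_coe (x : P) :
    (pm N P hPT x : T ⧸ N.subgroupOf T) = ((⟨(x : G), hPT x.2⟩ : T) : T ⧸ N.subgroupOf T) := rfl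

theorem pm_surjective : Function.Surjective (pm N P hPT) :=
  (subMap_surjective rfl).comp (Subgroup.subgroupOfEquivOfLe hPT).symm.surjective

theorem pm_ker {x : P} (hx : pm N P hPT x = 1) : (x : G) ∈ N := by
  have := congrArg Subtype.val hx
  rw [pm_coe, OneMemClass.coe_one, QuotientGroup.eq_one_iff] at this
  exact this

include hPT in
/-- The fibre of orbits over `θ`. -/
theorem card_fibre_orb (hT : T = inertia N (fn N θ)) (μ : T →* ℂˣ) (hμ : μ * μ = 1)
    (hμN : ∀ n : N, μ ⟨(n : G), hNT n.2⟩ = θ n) :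
    Nat.card (Orb ((P.subgroupOf T).map (QuotientGroup.mk' (N.subgroupOf T)))) =
      Nat.card {o : Orb P // OrbOver N P hNP θ o} := by
  let lof : Lin2 ((P.subgroupOf T).map (QuotientGroup.mk' (N.subgroupOf T))) → Lin2 P := fun w =>
    ⟨μ.comp (Subgroup.inclusion hPT) * w.1.comp (pm N P hPT), MonoidHom.ext fun x => by
      show μ _ * w.1 _ * (μ _ * w.1 _) = 1
      rw [mul_mul_mul_comm, sq_apply hμ, sq_apply w.2, one_mul]⟩
  have hlof : ∀ w x, (lof w).1 x = μ ⟨(x : G), hPT x.2⟩ * w.1 (pm N P hPT x) := fun _ _ => rfl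
  have hlN : ∀ w (n : N), (lof w).1 ⟨(n : G), hNP n.2⟩ = θ n := by
    intro w n
    have h1 : pm N P hPT ⟨(n : G), hNP n.2⟩ = 1 := Subtype.ext (by
      rw [pm_coe]
      exact (QuotientGroup.eq_one_iff _).2 n.2)
    rw [hlof, h1, map_one, mul_one]
    exact hμN n
  have hker : (QuotientGroup.mk' (N.subgroupOf T)).ker ≤ P.subgroupOf T := by
    rw [QuotientGroup.ker_mk']
    exact fun x hx => hNP hx
  have hwd : ∀ w w', Rel _ w w' → Rel P (lof w) (lof w') := by
    rintro w w' ⟨b, hb, h⟩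
    obtain ⟨t, ht, rfl⟩ :=
      lift_normalizer_of_ker_le _ (QuotientGroup.mk'_surjective _) hker b hb
    have htP : (t : G) ∈ Subgroup.normalizer (P : Set G) := by
      refine Subgroup.mem_normalizer_iff.2 fun x => ⟨fun hx => ?_, fun hx => ?_⟩
      · exact (Subgroup.mem_normalizer_iff.1 ht ⟨x, hPT hx⟩).1 hx
      · have hxT : x ∈ T := by
          have := T.mul_mem (T.mul_mem (T.inv_mem t.2) (hPT hx)) t.2
          simpa [mul_assoc] using this
        exact (Subgroup.mem_normalizer_iff.1 ht ⟨x, hxT⟩).2 hx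
    refine ⟨t, htP, fun x y hy => ?_⟩
    have e : (⟨(y : G), hPT y.2⟩ : T) = t * ⟨(x : G), hPT x.2⟩ * t⁻¹ := Subtype.ext (by
      simpa using hy)
    rw [hlof, hlof, e, hom_conj, h (pm N P hPT x) (pm N P hPT y)]
    rw [pm_coe, pm_coe, e]
    rfl
  refine Nat.card_eq_of_bijective (fun q => ⟨Quotient.map lof hwd q, ?_⟩) ⟨?_, ?_⟩
  · induction q using Quotient.ind with
    | _ w => exact ⟨lof w, rfl, hlN w⟩
  · intro q q' hqq
    induction q using Quotient.ind with
    | _ w =>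
    induction q' using Quotient.ind with
    | _ w' =>
    have hrel : Rel P (lof w) (lof w') := Quotient.exact (congrArg Subtype.val hqq)
    obtain ⟨n, hn, h⟩ := hrel
    have hnT : n ∈ T := by
      rw [hT, mem_inertia_iff]
      intro m
      have h1 := h ⟨(m : G), hNP m.2⟩ ⟨n * m * n⁻¹, hNP (hN.conj_mem _ m.2 n)⟩ rfl
      rw [hlN w' m, hlN w ⟨n * m * n⁻¹, hN.conj_mem _ m.2 n⟩] at h1
      exact (congrArg Units.val h1).symm
    refine Quotient.sound ⟨((⟨n, hnT⟩ : T) : T ⧸ N.subgroupOf T), ?_, fun x y hy => ?_⟩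
    · refine Subgroup.le_normalizer_map _ (Subgroup.mem_map_of_mem _ ?_)
      exact Subgroup.mem_normalizer_iff.2 fun z => Subgroup.mem_normalizer_iff.1 hn (z : G)
    · obtain ⟨x, rfl⟩ := pm_surjective N P hPT x
      have hy' : y = pm N P hPT ⟨n * x * n⁻¹, conj_mem hn x.2⟩ := by
        refine Subtype.ext (hy.trans ?_)
        rw [pm_coe, pm_coe]
        rfl
      have h1 := h x ⟨n * x * n⁻¹, conj_mem hn x.2⟩ rfl
      rw [hlof, hlof, ← hy',
        show (⟨n * x * n⁻¹, hPT (conj_mem hn x.2)⟩ : T) =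
          ⟨n, hnT⟩ * ⟨(x : G), hPT x.2⟩ * ⟨n, hnT⟩⁻¹ from rfl, hom_conj] at h1
      exact mul_left_cancel h1
  · rintro ⟨o, l, rfl, hl⟩
    obtain ⟨w, hw⟩ := exists_factor_hom (pm N P hPT) (pm_surjective N P hPT)
      (l.1 * μ.comp (Subgroup.inclusion hPT)) fun x hx => by
        have hxN := pm_ker N P hPT (MonoidHom.mem_ker.1 hx)
        rw [MonoidHom.mem_ker, MonoidHom.mul_apply, MonoidHom.comp_apply]
        have e1 : l.1 x = θ ⟨(x : G), hxN⟩ := hl ⟨(x : G), hxN⟩
        have e2 : μ (Subgroup.inclusion hPT x) = θ ⟨(x : G), hxN⟩ := hμN ⟨(x : G), hxN⟩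
        rw [e1, e2, ← e2, sq_apply hμ]
    have hw2 : w * w = 1 := MonoidHom.ext fun q => by
      obtain ⟨x, rfl⟩ := pm_surjective N P hPT q
      rw [MonoidHom.mul_apply, hw, MonoidHom.mul_apply, MonoidHom.one_apply, MonoidHom.comp_apply,
        mul_mul_mul_comm, sq_apply l.2, sq_apply hμ, one_mul]
    refine ⟨⟦⟨w, hw2⟩⟧, Subtype.ext (congrArg (Quotient.mk _) (Subtype.ext (MonoidHom.ext fun x => ?_)))⟩
    rw [hlof, hw, MonoidHom.mul_apply, MonoidHom.comp_apply, mul_left_comm]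
    exact (congrArg _ (sq_apply hμ _)).trans (mul_one _)

end Sylow

end Cfsg.Agent.RealOddSolvable
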